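import Mathlib

/-! A checker for three-class equations. -/

set_option autoImplicit false

namespace Cfsg.Agent.H9.AR

/-- evaluate `x` first -/
def frc (x : ℕ) (k : ℕ → Bool) : Bool := Nat.rec (k 0) (fun y _ => k (Nat.succ y)) x

theorem frc_eq (x : ℕ) (k : ℕ → Bool) : frc x k = k x := by cases x <;> rfl

def allB (p : ℕ → Bool) (hi d : ℕ) : ℕ → Bool :=
  Nat.rec (fun lo => Nat.blt hi lo || p lo)
    (fun d ih lo => Nat.blt hi lo || (ih lo && frc (Nat.add lo (Nat.pow 2 d)) ih)) d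

theorem allB_sound (p : ℕ → Bool) (hi d : ℕ) : ∀ lo, allB p hi d lo = true →
    ∀ x, lo ≤ x → x ≤ hi → x < lo + 2 ^ d → p x = true := by
  induction d with
  | zero =>
    intro lo h x h1 h2 h3
    have h' : (Nat.blt hi lo || p lo) = true := h
    have : x = lo := by omega
    subst this
    rcases Bool.or_eq_true_iff.1 h' with h | h
    · rw [Nat.blt_eq] at h; omega
    · exact h
  | succ d ih =>
    intro lo h x h1 h2 h3
    have h' : (Nat.blt hi lo || (allB p hi d lo && frc (lo + 2 ^ d) (allB p hi d))) = true := h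
    rw [frc_eq] at h'
    rcases Bool.or_eq_true_iff.1 h' with h | h
    · rw [Nat.blt_eq] at h; omega
    · obtain ⟨ha, hb⟩ := Bool.and_eq_true_iff.1 h
      by_cases hx : x < lo + 2 ^ d
      · exact ih lo ha x h1 h2 hx
      · exact ih _ hb x (by omega) h2 (by rw [pow_succ] at h3; omega)

def rng (lo hi : ℕ) (p : ℕ → Bool) : Bool :=
  frc lo fun lo => frc hi fun hi => allB p hi (Nat.succ (Nat.log2 (Nat.sub hi lo))) lo

theorem rng_sound {lo hi : ℕ} {p : ℕ → Bool} (h : rng lo hi p = true) {x : ℕ} (h1 : lo ≤ x) (h2 : x ≤ hi) :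
    p x = true := by
  unfold rng at h
  rw [frc_eq, frc_eq] at h
  refine allB_sound p hi _ lo h x h1 h2 ?_
  have : hi - lo < 2 ^ (Nat.log2 (hi - lo) + 1) := Nat.lt_log2_self
  have e : Nat.succ (Nat.log2 (Nat.sub hi lo)) = Nat.log2 (hi - lo) + 1 := rfl
  rw [e]; omega

local infixl:65 " +ₙ " => Nat.add
local infixl:65 " -ₙ " => Nat.sub
local infixl:70 " *ₙ " => Nat.mul
local infixl:70 " /ₙ " => Nat.div
local infixl:70 " %ₙ " => Nat.mod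

/-- the two outer loops -/
def fam (c t ka K : ℕ) (flt : ℕ → ℕ → ℕ → Bool) (ev : ℕ → ℕ → ℕ → ℕ → ℕ → ℕ → ℕ → Bool) (e1 e2 e3 : ℕ) : Bool :=
  frc (e2 *ₙ e3) fun g => frc (e2 +ₙ e3) fun σ =>
  frc (c *ₙ (g +ₙ e1 *ₙ σ)) fun sp => frc (t *ₙ e1 *ₙ g) fun sm =>
  Nat.ble sp sm || rng 0 ((sp +ₙ e1 *ₙ g *ₙ (ka +ₙ K)) /ₙ ((sp -ₙ sm) *ₙ e1)) fun f1 =>
    frc (e1 *ₙ f1 +ₙ 1) fun n1 =>
    Nat.beq (n1 %ₙ 2) 0 || (Nat.beq f1 0 && !Nat.beq e1 2) || flt e2 e3 n1 ||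
    frc (c *ₙ n1 *ₙ σ) fun w => frc (c *ₙ f1 *ₙ g +ₙ w) fun tp => frc (t *ₙ n1 *ₙ g) fun tm =>
    Nat.ble tp tm || rng ((n1 -ₙ 1) /ₙ e2) ((w +ₙ (ka *ₙ n1 +ₙ K) *ₙ g) /ₙ ((tp -ₙ tm) *ₙ e2)) fun f2 =>
      frc (e2 *ₙ f2 +ₙ 1) fun n2 =>
      Nat.beq (n2 %ₙ 2) 0 || Nat.blt n2 n1 || (Nat.beq f2 0 && !Nat.beq e2 2) || !Nat.beq (Nat.gcd n1 n2) 1 ||
        ev e1 e2 e3 f1 n1 f2 n2

/-- a class: `n = e f + 1` odd, dummy classes have `e = 2` -/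
structure Cl (e f n : ℕ) : Prop where
  eq : n = e * f + 1
  odd : n % 2 = 1
  two : 2 ≤ e
  dum : f = 0 → e = 2

theorem bound1 {c t ka K e1 e2 e3 f1 f2 f3 n1 n2 n3 Dm Dp : ℕ} (hc : 2 ≤ c) (_h1 : Cl e1 f1 n1) (h2 : Cl e2 f2 n2)
    (h3 : Cl e3 f3 n3) (o23 : n2 ≤ n3) (hm : Dm ≤ 1) (hp : Dp ≤ (ka * n1 + K) * n3) (p1 : 1 ≤ n1)
    (E : c * (f1 * n2 * n3 + f2 * n1 * n3 + f3 * n1 * n2) + Dm = t * (n1 * n2 * n3) + Dp) :
    t * n1 * (e2 * e3) < c * f1 * (e2 * e3) + c * n1 * (e2 + e3) ∧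
      (c * f1 * (e2 * e3) + c * n1 * (e2 + e3) - t * n1 * (e2 * e3)) * n2 ≤
        c * n1 * (e2 + e3) + (ka * n1 + K) * (e2 * e3) := by
  have q2 := h2.eq
  have q3 := h3.eq
  have p2 : 1 ≤ n2 := by omega
  have p3 : 1 ≤ n3 := by omega
  have key : (c * f1 * (e2 * e3) + c * n1 * (e2 + e3)) * (n2 * n3) + Dm * (e2 * e3) =
      t * n1 * (e2 * e3) * (n2 * n3) + c * n1 * (e3 * n3 + e2 * n2) + Dp * (e2 * e3) := by
    zify at E q2 q3 ⊢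
    linear_combination (e2 * e3 : ℤ) * E + (c * n1 * e3 * n3 : ℤ) * q2 + (c * n1 * e2 * n2 : ℤ) * q3
  have pos : Dm * (e2 * e3) < c * n1 * (e3 * n3 + e2 * n2) := by
    have a1 : Dm * (e2 * e3) ≤ 1 * (e2 * e3) := Nat.mul_le_mul_right _ hm
    have a2 : 2 * (e3 * n3 + e2 * n2) ≤ c * n1 * (e3 * n3 + e2 * n2) := Nat.mul_le_mul_right _ (by nlinarith)
    have a3 : e2 ≤ 2 * n3 := by
      rcases Nat.eq_zero_or_pos f2 with h | h
      · have := h2.dum h; omega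
      · nlinarith
    have a4 : e2 * e3 ≤ 2 * (e3 * n3) := by nlinarith
    have a5 : 0 < e2 * n2 := Nat.mul_pos (by have := h2.two; omega) p2
    omega
  generalize c * f1 * (e2 * e3) + c * n1 * (e2 + e3) = tp at *
  generalize t * n1 * (e2 * e3) = tm at *
  have lt : tm < tp := by
    by_contra hh
    have : tp * (n2 * n3) ≤ tm * (n2 * n3) := Nat.mul_le_mul_right _ (by omega)
    omega
  refine ⟨lt, ?_⟩
  obtain ⟨s, rfl⟩ : ∃ s, tp = tm + s := ⟨tp - tm, by omega⟩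
  rw [Nat.add_sub_cancel_left]
  refine Nat.le_of_mul_le_mul_right (c := n3) ?_ p3
  have b1 : e2 * n2 ≤ e2 * n3 := Nat.mul_le_mul_left _ o23
  have b2 : c * n1 * (e3 * n3 + e2 * n2) ≤ c * n1 * (e3 * n3 + e2 * n3) := Nat.mul_le_mul_left _ (by omega)
  have b3 : Dp * (e2 * e3) ≤ (ka * n1 + K) * n3 * (e2 * e3) := Nat.mul_le_mul_right _ hp
  have z1 : (tm + s) * (n2 * n3) = tm * (n2 * n3) + s * n2 * n3 := by ring
  have z2 : (c * n1 * (e2 + e3) + (ka * n1 + K) * (e2 * e3)) * n3 =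
    c * n1 * (e3 * n3 + e2 * n3) + (ka * n1 + K) * n3 * (e2 * e3) := by ring
  omega

theorem bound0 {c t ka K e1 e2 e3 f1 f2 f3 n1 n2 n3 Dm Dp : ℕ} (hc : 2 ≤ c) (h1 : Cl e1 f1 n1) (h2 : Cl e2 f2 n2)
    (h3 : Cl e3 f3 n3) (o12 : n1 ≤ n2) (o23 : n2 ≤ n3) (hm : Dm ≤ 1) (hp : Dp ≤ (ka * n1 + K) * n3)
    (E : c * (f1 * n2 * n3 + f2 * n1 * n3 + f3 * n1 * n2) + Dm = t * (n1 * n2 * n3) + Dp) :
    t * e1 * (e2 * e3) < c * (e2 * e3 + e1 * (e2 + e3)) ∧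
      (c * (e2 * e3 + e1 * (e2 + e3)) - t * e1 * (e2 * e3)) * n1 ≤
        c * (e2 * e3 + e1 * (e2 + e3)) + e1 * (e2 * e3) * (ka + K) := by
  have q1 := h1.eq
  have q2 := h2.eq
  have q3 := h3.eq
  have p1 : 1 ≤ n1 := by omega
  have p2 : 1 ≤ n2 := by omega
  have p3 : 1 ≤ n3 := by omega
  have key : c * (e2 * e3 + e1 * (e2 + e3)) * (n1 * (n2 * n3)) + Dm * (e1 * (e2 * e3)) =
      t * e1 * (e2 * e3) * (n1 * (n2 * n3)) + c * (e2 * e3 * (n2 * n3) + e1 * e3 * (n1 * n3) + e1 * e2 * (n1 * n2)) +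
        Dp * (e1 * (e2 * e3)) := by
    zify at E q1 q2 q3 ⊢
    linear_combination (e1 * e2 * e3 : ℤ) * E + (c * e2 * e3 * n2 * n3 : ℤ) * q1 + (c * n1 * e1 * e3 * n3 : ℤ) * q2 +
      (c * n1 * e1 * e2 * n2 : ℤ) * q3
  have pos : Dm * (e1 * (e2 * e3)) < c * (e2 * e3 * (n2 * n3) + e1 * e3 * (n1 * n3) + e1 * e2 * (n1 * n2)) := by
    have a1 : Dm * (e1 * (e2 * e3)) ≤ 1 * (e1 * (e2 * e3)) := Nat.mul_le_mul_right _ hm
    have a2 : 2 * (e2 * e3 * (n2 * n3) + e1 * e3 * (n1 * n3) + e1 * e2 * (n1 * n2)) ≤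
      c * (e2 * e3 * (n2 * n3) + e1 * e3 * (n1 * n3) + e1 * e2 * (n1 * n2)) := Nat.mul_le_mul_right _ hc
    have a3 : e1 ≤ 2 * (n2 * n3) := by
      have : n2 ≤ n2 * n3 := Nat.le_mul_of_pos_right _ p3
      rcases Nat.eq_zero_or_pos f1 with h | h
      · have := h1.dum h; omega
      · have : e1 ≤ e1 * f1 := Nat.le_mul_of_pos_right _ h
        omega
    have a4 : e1 * (e2 * e3) ≤ 2 * (n2 * n3) * (e2 * e3) := Nat.mul_le_mul_right _ a3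
    have a5 : 0 < e1 * e2 * (n1 * n2) :=
      Nat.mul_pos (Nat.mul_pos (by have := h1.two; omega) (by have := h2.two; omega)) (Nat.mul_pos p1 p2)
    have a6 : 2 * (n2 * n3) * (e2 * e3) = 2 * (e2 * e3 * (n2 * n3)) := by ring
    omega
  have b1 : n1 * n3 ≤ n2 * n3 := Nat.mul_le_mul_right _ o12
  have b1' : n1 * n2 ≤ n2 * n3 := by nlinarith
  have b2 : c * (e2 * e3 * (n2 * n3) + e1 * e3 * (n1 * n3) + e1 * e2 * (n1 * n2)) ≤
      c * (e2 * e3 + e1 * (e2 + e3)) * (n2 * n3) := by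
    have x1 : e1 * e3 * (n1 * n3) ≤ e1 * e3 * (n2 * n3) := Nat.mul_le_mul_left _ b1
    have x2 : e1 * e2 * (n1 * n2) ≤ e1 * e2 * (n2 * n3) := Nat.mul_le_mul_left _ b1'
    rw [mul_assoc c]
    refine Nat.mul_le_mul_left _ ?_
    have : (e2 * e3 + e1 * (e2 + e3)) * (n2 * n3) = e2 * e3 * (n2 * n3) + e1 * e3 * (n2 * n3) + e1 * e2 * (n2 * n3) := by
      ring
    omega
  have b3 : Dp * (e1 * (e2 * e3)) ≤ e1 * (e2 * e3) * (ka + K) * (n2 * n3) := by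
    have x1 : ka * n1 + K ≤ (ka + K) * n2 := by nlinarith
    have x2 : Dp ≤ (ka + K) * n2 * n3 := hp.trans (Nat.mul_le_mul_right _ x1)
    calc _ ≤ (ka + K) * n2 * n3 * (e1 * (e2 * e3)) := Nat.mul_le_mul_right _ x2
      _ = _ := by ring
  generalize c * (e2 * e3 * (n2 * n3) + e1 * e3 * (n1 * n3) + e1 * e2 * (n1 * n2)) = w at *
  generalize c * (e2 * e3 + e1 * (e2 + e3)) = sp at *
  generalize t * e1 * (e2 * e3) = sm at *
  have lt : sm < sp := by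
    by_contra hh
    have : sp * (n1 * (n2 * n3)) ≤ sm * (n1 * (n2 * n3)) := Nat.mul_le_mul_right _ (by omega)
    omega
  refine ⟨lt, ?_⟩
  obtain ⟨s, rfl⟩ : ∃ s, sp = sm + s := ⟨sp - sm, by omega⟩
  rw [Nat.add_sub_cancel_left]
  refine Nat.le_of_mul_le_mul_right (c := n2 * n3) ?_ (Nat.mul_pos p2 p3)
  have z1 : (sm + s) * (n1 * (n2 * n3)) = sm * (n1 * (n2 * n3)) + s * n1 * (n2 * n3) := by ring
  have z2 : (sm + s + e1 * (e2 * e3) * (ka + K)) * (n2 * n3) =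
    (sm + s) * (n2 * n3) + e1 * (e2 * e3) * (ka + K) * (n2 * n3) := by ring
  omega

theorem fam_sound {c t ka K : ℕ} {flt : ℕ → ℕ → ℕ → Bool} {ev : ℕ → ℕ → ℕ → ℕ → ℕ → ℕ → ℕ → Bool}
    {e1 e2 e3 f1 f2 f3 n1 n2 n3 Dm Dp : ℕ} (h : fam c t ka K flt ev e1 e2 e3 = true)
    (hc : 2 ≤ c) (h1 : Cl e1 f1 n1) (h2 : Cl e2 f2 n2)
    (h3 : Cl e3 f3 n3) (o12 : n1 ≤ n2) (o23 : n2 ≤ n3) (hm : Dm ≤ 1) (hp : Dp ≤ (ka * n1 + K) * n3)
    (E : c * (f1 * n2 * n3 + f2 * n1 * n3 + f3 * n1 * n2) + Dm = t * (n1 * n2 * n3) + Dp)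
    (co : n1.Coprime n2) (hf : flt e2 e3 n1 = false) : ev e1 e2 e3 f1 n1 f2 n2 = true := by
  have q1 := h1.eq
  have q2 := h2.eq
  obtain ⟨l0, m0⟩ := bound0 hc h1 h2 h3 o12 o23 hm hp E
  obtain ⟨l1, m1⟩ := bound1 hc h1 h2 h3 o23 hm hp (by omega) E
  have t1 := h1.two
  have t2 := h2.two
  simp only [fam, frc_eq, Nat.add_eq, Nat.mul_eq, Nat.sub_eq, Bool.or_eq_true, Nat.ble_eq] at h
  rcases h with h | h
  · omega
  have r1 := rng_sound h (x := f1) (Nat.zero_le _) (by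
    refine (Nat.le_div_iff_mul_le (Nat.mul_pos (by omega) (by omega))).2 (le_trans ?_ m0)
    rw [q1]; nlinarith)
  rw [← q1] at r1
  have d1 : (Nat.beq f1 0 && !Nat.beq e1 2) = false := by
    rcases Nat.eq_zero_or_pos f1 with h | h
    · rw [h1.dum h]; simp
    · obtain ⟨g, rfl⟩ : ∃ g, f1 = g + 1 := ⟨f1 - 1, by omega⟩
      rfl
  have d2 : (Nat.beq f2 0 && !Nat.beq e2 2) = false := by
    rcases Nat.eq_zero_or_pos f2 with h | h
    · rw [h2.dum h]; simp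
    · obtain ⟨g, rfl⟩ : ∃ g, f2 = g + 1 := ⟨f2 - 1, by omega⟩
      rfl
  have u1 : Nat.beq (Nat.mod n1 2) 0 = false := by
    have : Nat.mod n1 2 = 1 := h1.odd
    rw [this]; rfl
  have u2 : Nat.beq (Nat.mod n2 2) 0 = false := by
    have : Nat.mod n2 2 = 1 := h2.odd
    rw [this]; rfl
  simp only [d1, u1, hf, Bool.false_or, Bool.or_eq_true, Nat.ble_eq] at r1
  rcases r1 with r1 | r1
  · omega
  have r2 := rng_sound r1 (x := f2) (by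
      refine Nat.div_le_of_le_mul ?_
      omega) (by
    refine (Nat.le_div_iff_mul_le (Nat.mul_pos (by omega) (by omega))).2 (le_trans ?_ m1)
    generalize c * f1 * (e2 * e3) + c * n1 * (e2 + e3) - t * n1 * (e2 * e3) = s
    rw [q2]; nlinarith)
  rw [← q2] at r2
  have u3 : Nat.blt n2 n1 = false := by
    rw [Bool.eq_false_iff]; intro h; rw [Nat.blt_eq] at h; omega
  have u4 : Nat.gcd n1 n2 = 1 := co
  simpa [d2, u2, u3, u4] using r2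

end Cfsg.Agent.H9.AR
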