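import Cfsg.Agent.H9.AR1

/-! The inner evaluators. -/

set_option autoImplicit false

namespace Cfsg.Agent.H9.AR

local infixl:65 " +ₙ " => Nat.add
local infixl:65 " -ₙ " => Nat.sub
local infixl:70 " *ₙ " => Nat.mul
local infixl:70 " /ₙ " => Nat.div
local infixl:70 " %ₙ " => Nat.mod

def isqA (d fuel : ℕ) : ℕ → (ℕ → Bool) → Bool :=
  Nat.rec (fun x k => k x)
    (fun _ ih x k => frc ((x +ₙ d /ₙ x) /ₙ 2) fun y => cond (Nat.blt y x) (ih y k) (k x)) fuel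

theorem isqA_sound (d fuel : ℕ) : ∀ x k, isqA d fuel x k = true → ∃ r, k r = true := by
  induction fuel with
  | zero => intro x k h; exact ⟨x, h⟩
  | succ n ih =>
    intro x k h
    have h' : (frc ((x +ₙ d /ₙ x) /ₙ 2) fun y => cond (Nat.blt y x) (isqA d n y k) (k x)) = true := h
    rw [frc_eq] at h'
    cases hb : Nat.blt ((x +ₙ d /ₙ x) /ₙ 2) x
    · rw [hb] at h'; exact ⟨x, h'⟩
    · rw [hb] at h'; exact ih _ _ h'

def cand (um N0 e3 n2 P al2 be2 a2 x : ℕ) : Bool :=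
  !Nat.beq (x %ₙ a2) 0 || frc (x /ₙ a2) fun z => frc (e3 *ₙ z +ₙ 1) fun n3 =>
    Nat.beq z 0 || Nat.blt n3 n2 || Nat.beq (n3 %ₙ 2) 0 || Nat.blt (al2 *ₙ z) (be2 +ₙ um) ||
      Nat.beq (2 *ₙ (al2 *ₙ z -ₙ be2) *ₙ (P *ₙ n3)) N0

def evQ (c t um N0 e1 e2 e3 f1 n1 f2 n2 : ℕ) : Bool :=
  frc (n1 *ₙ n2) fun P => frc (c *ₙ (f1 *ₙ n2 +ₙ f2 *ₙ n1)) fun cA => frc (t *ₙ P) fun tP =>
  Nat.ble tP cA || frc (tP -ₙ cA) fun be => frc (c *ₙ (1 -ₙ e3 %ₙ 2)) fun ce => frc (c *ₙ P) fun cP =>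
  frc (be *ₙ e3) fun bE =>
  Nat.ble cP (bE +ₙ ce) || frc (cP -ₙ bE) fun al => frc (al -ₙ ce) fun al2 =>
  frc (be -ₙ 1 +ₙ c *ₙ ((1 -ₙ e1 %ₙ 2) *ₙ f1 +ₙ (1 -ₙ e2 %ₙ 2) *ₙ f2)) fun be2 =>
  frc (al *ₙ al2) fun a => frc (al *ₙ be2 +ₙ al2 *ₙ be +ₙ P *ₙ e3) fun b =>
  frc (b *ₙ b +ₙ 4 *ₙ a *ₙ P) fun dp => frc (4 *ₙ a *ₙ (be *ₙ be2 +ₙ 1)) fun dm =>
  Nat.blt dp dm || frc (dp -ₙ dm) fun d =>
  frc (Nat.pow 2 (Nat.log2 d /ₙ 2 +ₙ 1)) fun x0 => isqA d 40 x0 fun r =>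
  (Nat.blt (r *ₙ r) d && Nat.blt d ((r +ₙ 1) *ₙ (r +ₙ 1))) ||
    (Nat.beq (r *ₙ r) d && cand um N0 e3 n2 P al2 be2 (2 *ₙ a) (b +ₙ r) && cand um N0 e3 n2 P al2 be2 (2 *ₙ a) (b -ₙ r))

theorem cand_sound {um N0 e3 n2 P al2 be2 a2 z u : ℕ} (h : cand um N0 e3 n2 P al2 be2 a2 (a2 * z) = true)
    (ha : 0 < a2) (hz : 0 < z) (h1 : n2 ≤ e3 * z + 1) (h2 : (e3 * z + 1) % 2 = 1) (hu : al2 * z = be2 + u)
    (hm : um ≤ u) : 2 * u * (P * (e3 * z + 1)) = N0 := by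
  have x1 : Nat.mod (a2 * z) a2 = 0 := Nat.mul_mod_right _ _
  have x2 : Nat.div (a2 * z) a2 = z := Nat.mul_div_cancel_left _ ha
  have x3 : Nat.mod (e3 * z + 1) 2 = 1 := h2
  simp only [cand, frc_eq, x1, x2, x3, Nat.add_eq, Nat.mul_eq, Nat.sub_eq, Bool.or_eq_true, Nat.blt_eq, Nat.beq_eq,
    Nat.beq_refl, Bool.not_true] at h
  rcases h with h | (((h | h) | h) | h) | h
  · exact absurd h (by simp)
  · omega
  · omega
  · omega
  · omega
  · rw [hu, Nat.add_sub_cancel_left] at h; exact h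

theorem evQ_sound {c t um N0 e1 e2 e3 f1 f2 f3 n1 n2 n3 u D : ℕ} (h : evQ c t um N0 e1 e2 e3 f1 n1 f2 n2 = true)
    (h3 : Cl e3 f3 n3) (g3 : 0 < f3) (o23 : n2 ≤ n3)
    (E : c * (f1 * n2 * n3 + f2 * n1 * n3 + f3 * n1 * n2) = t * (n1 * n2 * n3) + D)
    (hP : n1 * n2 * n3 = u * D + 1)
    (hD : D + 1 = u + c * ((1 - e1 % 2) * f1 + (1 - e2 % 2) * f2 + (1 - e3 % 2) * f3))
    (hu : um ≤ u) (u0 : 0 < u) (hs : c * (f1 * n2 + f2 * n1) < t * (n1 * n2)) :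
    2 * u * (n1 * n2 * n3) = N0 := by
  have q3 := h3.eq
  have m1 : ∀ x, Nat.mod x 2 = x % 2 := fun _ => rfl
  simp only [evQ, frc_eq, m1, Nat.add_eq, Nat.mul_eq, Nat.sub_eq, Bool.or_eq_true, Nat.blt_eq, Nat.ble_eq] at h
  have E' : c * (f1 * n2 + f2 * n1) * n3 + c * (n1 * n2) * f3 = t * (n1 * n2) * n3 + D := by
    zify at E ⊢; linear_combination E
  clear E
  generalize n1 * n2 = P at *
  generalize c * (f1 * n2 + f2 * n1) = cA at *
  obtain ⟨be, hbe⟩ : ∃ be, t * P = cA + (be + 1) := ⟨t * P - cA - 1, by omega⟩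
  have hD' : D + 1 = u + c * ((1 - e1 % 2) * f1 + (1 - e2 % 2) * f2) + c * (1 - e3 % 2) * f3 := by
    rw [hD]; ring
  clear hD
  generalize c * ((1 - e1 % 2) * f1 + (1 - e2 % 2) * f2) = cr at *
  generalize c * (1 - e3 % 2) = ce at *
  generalize c * P = cP at *
  rw [hbe, Nat.add_sub_cancel_left, Nat.add_sub_cancel] at h
  have E2 : cP * f3 = ((be + 1) * e3 + ce) * f3 + (be + cr + u) := by
    rw [hbe] at E'
    zify at E' q3 hD' ⊢
    linear_combination E' + (be + 1 : ℤ) * q3 + hD'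
  have lt : (be + 1) * e3 + ce < cP := by
    by_contra hh
    have : cP * f3 ≤ ((be + 1) * e3 + ce) * f3 := Nat.mul_le_mul_right _ (by omega)
    omega
  obtain ⟨al2, rfl⟩ : ∃ al2, cP = (be + 1) * e3 + (ce + al2) := ⟨cP - ((be + 1) * e3 + ce), by omega⟩
  have al0 : 0 < al2 := by omega
  rw [Nat.add_sub_cancel_left, Nat.add_sub_cancel_left] at h
  have U : al2 * f3 = be + cr + u := by
    zify at E2 ⊢; linear_combination E2
  have V : (ce + al2) * f3 = be + 1 + D := by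
    zify at U hD' ⊢; linear_combination U - hD'
  generalize be + cr = be2 at *
  generalize ce + al2 = al at *
  have a0 : 0 < al := by
    rcases Nat.eq_zero_or_pos al with h0 | h0
    · rw [h0] at V; omega
    · exact h0
  generalize be + 1 = β at *
  have Q : al * al2 * f3 * f3 + (β * be2 + 1) = (al * be2 + al2 * β + P * e3) * f3 + P := by
    zify at U V hP q3 ⊢
    linear_combination (al * f3 - β : ℤ) * U + (u : ℤ) * V - hP + (P : ℤ) * q3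
  have aa : 0 < 2 * (al * al2) := by positivity
  generalize al * be2 + al2 * β + P * e3 = b at *
  generalize β * be2 + 1 = Z at *
  generalize al * al2 = a at *
  have S : ((b * b + 4 * a * P : ℕ) : ℤ) - (4 * a * Z : ℕ) = (2 * a * f3 - b) ^ 2 := by
    zify at Q; push_cast
    linear_combination (-4 * a : ℤ) * Q
  have le : 4 * a * Z ≤ b * b + 4 * a * P := by
    have := sq_nonneg (2 * (a : ℤ) * f3 - b)
    omega
  rcases h with h | h | h | h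
  · omega
  · omega
  · omega
  obtain ⟨r, hr⟩ := isqA_sound _ _ _ _ h
  rw [← Nat.cast_sub le] at S
  generalize b * b + 4 * a * P - 4 * a * Z = d at *
  simp only [Bool.or_eq_true, Bool.and_eq_true, Nat.blt_eq, Nat.beq_eq] at hr
  have o3 := h3.odd
  rw [q3] at o23 o3 ⊢
  rcases hr with ⟨r1, r2⟩ | ⟨⟨r1, r2⟩, r3⟩
  · exfalso
    have y : ((2 * (a : ℤ) * f3 - b).natAbs) * ((2 * (a : ℤ) * f3 - b).natAbs) = d := by
      zify; rw [S, abs_mul_abs_self, sq]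
    generalize (2 * (a : ℤ) * f3 - b).natAbs = m at y
    rw [← y] at r1 r2
    have := Nat.mul_self_lt_mul_self_iff.1 r1
    have := Nat.mul_self_lt_mul_self_iff.1 r2
    omega
  · have y : ((r : ℤ)) ^ 2 = (2 * a * f3 - b) ^ 2 := by rw [← S, ← r1]; push_cast; ring
    rcases sq_eq_sq_iff_eq_or_eq_neg.1 y with y | y
    · have : b + r = 2 * a * f3 := by zify; linear_combination y
      rw [this] at r2
      exact cand_sound r2 aa g3 o23 o3 U hu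
    · have : b - r = 2 * a * f3 := by
        have : b = r + 2 * a * f3 := by zify; linear_combination -y
        omega
      rw [this] at r3
      exact cand_sound r3 aa g3 o23 o3 U hu

def bad (c e f n Q : ℕ) : Bool :=
  !Nat.beq (Nat.gcd n c) 1 ||
    (Nat.blt 0 f && ((Nat.beq (e %ₙ 2) 0 && !Nat.beq (c %ₙ e) 0) || !Nat.beq ((c *ₙ Q) %ₙ e) 0))

/-- extra conditions in the linear case -/
structure Ex (c e f n N : ℕ) : Prop where
  coc : n.Coprime c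
  ev : 0 < f → 2 ∣ e → e ∣ c
  den : 0 < f → n * e ∣ N

theorem bad_false {c e f n Q : ℕ} (h : Ex c e f n (c * (n * Q))) (hn : 0 < n) : bad c e f n Q = false := by
  have x1 : Nat.gcd n c = 1 := h.coc
  rw [Bool.eq_false_iff]
  intro hb
  have m1 : ∀ x y, Nat.mod x y = x % y := fun _ _ => rfl
  simp only [bad, x1, m1, Nat.mul_eq, Bool.or_eq_true, Bool.and_eq_true, Nat.blt_eq, Nat.beq_eq, Nat.beq_refl,
    Bool.not_true, Bool.not_eq_true'] at hb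
  rcases hb with hb | ⟨h0, ⟨h1, h2⟩ | h3⟩
  · exact absurd hb (by simp)
  · have := Nat.mod_eq_zero_of_dvd (h.ev h0 (Nat.dvd_of_mod_eq_zero h1))
    rw [this] at h2; exact absurd h2 (by simp)
  · have d := h.den h0
    rw [show c * (n * Q) = n * (c * Q) by ring] at d
    have := Nat.mod_eq_zero_of_dvd (Nat.dvd_of_mul_dvd_mul_left hn d)
    rw [this] at h3; exact absurd h3 (by simp)

def evL (c t N0 e1 e2 e3 f1 n1 f2 n2 : ℕ) : Bool :=
  frc (n1 *ₙ n2) fun P => frc (c *ₙ (f1 *ₙ n2 +ₙ f2 *ₙ n1)) fun cA => frc (t *ₙ P) fun tP =>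
  Nat.ble tP cA || frc (tP -ₙ cA) fun be => frc (c *ₙ P) fun cP => frc (be *ₙ e3) fun bE =>
  Nat.ble cP bE || frc (cP -ₙ bE) fun al => !Nat.beq ((be -ₙ 1) %ₙ al) 0 ||
  frc ((be -ₙ 1) /ₙ al) fun z => frc (e3 *ₙ z +ₙ 1) fun n3 =>
  Nat.beq z 0 || Nat.blt n3 n2 || Nat.beq (n3 %ₙ 2) 0 || bad c e1 f1 n1 (n2 *ₙ n3) || bad c e2 f2 n2 (n1 *ₙ n3) ||
    bad c e3 z n3 P || Nat.beq (cP *ₙ n3) N0

def fltL (c e2 e3 n1 : ℕ) : Bool :=
  !Nat.beq (Nat.gcd n1 c) 1 || !Nat.beq ((c *ₙ n1 *ₙ (c *ₙ n1 -ₙ e2)) %ₙ e3) 0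

theorem evL_sound {c t N0 e1 e2 e3 f1 f2 f3 n1 n2 n3 w : ℕ} (h : evL c t N0 e1 e2 e3 f1 n1 f2 n2 = true)
    (h1 : Cl e1 f1 n1) (h2 : Cl e2 f2 n2) (h3 : Cl e3 f3 n3) (g3 : 0 < f3) (o23 : n2 ≤ n3)
    (x1 : Ex c e1 f1 n1 (c * (n1 * n2 * n3))) (x2 : Ex c e2 f2 n2 (c * (n1 * n2 * n3)))
    (x3 : Ex c e3 f3 n3 (c * (n1 * n2 * n3))) (w0 : 0 < w) (W1 : c * (n1 * n2) = e3 * (w * n3 + 1))
    (W2 : t * (n1 * n2) = c * (f1 * n2 + f2 * n1) + (1 + e3 * f3 * w)) : c * (n1 * n2 * n3) = N0 := by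
  have q1 := h1.eq
  have q2 := h2.eq
  have q3 := h3.eq
  have t3 := h3.two
  have b1 : bad c e1 f1 n1 (n2 * n3) = false := bad_false (by rw [← mul_assoc n1]; exact x1) (by omega)
  have b2 : bad c e2 f2 n2 (n1 * n3) = false :=
    bad_false (by rw [show n2 * (n1 * n3) = n1 * n2 * n3 by ring]; exact x2) (by omega)
  have b3 : bad c e3 f3 n3 (n1 * n2) = false := bad_false (by rw [mul_comm n3]; exact x3) (by omega)
  have m1 : ∀ x y, Nat.mod x y = x % y := fun _ _ => rfl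
  have m2 : ∀ x y, Nat.div x y = x / y := fun _ _ => rfl
  simp only [evL, frc_eq, m1, m2, Nat.add_eq, Nat.mul_eq, Nat.sub_eq, Bool.or_eq_true, Nat.blt_eq, Nat.ble_eq] at h
  have y1 : c * (n1 * n2) = (1 + e3 * f3 * w) * e3 + e3 * w := by rw [W1, q3]; ring
  have y0 : 0 < e3 * w := Nat.mul_pos (by omega) w0
  rw [W2, y1, Nat.add_sub_cancel_left, Nat.add_sub_cancel_left, Nat.add_sub_cancel_left,
    show e3 * f3 * w = e3 * w * f3 by ring, Nat.mul_mod_right, Nat.mul_div_cancel_left _ y0, ← q3, b1, b2, b3,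
    h3.odd] at h
  simp only [Nat.beq_eq, Nat.beq_refl, Bool.not_true] at h
  rcases h with h | h | h | (((((h | h) | h) | h) | h) | h) | h
  · omega
  · omega
  · exact absurd h (by simp)
  · omega
  · omega
  · omega
  · exact absurd h (by simp)
  · exact absurd h (by simp)
  · exact absurd h (by simp)
  · rw [← h, ← mul_assoc c, y1]; ring

/-- all families with two entries `a b` and the third in `[lo, hi]` -/
def fams (F : ℕ → ℕ → ℕ → Bool) (a b lo hi : ℕ) : Bool :=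
  rng lo hi fun l => F l a b && F a l b && F a b l

def FH : ℕ → ℕ → ℕ → Bool := fam 8 5 1 12 (fun _ _ _ => false) (evQ 8 5 6 0)
def FD (e1 e2 e3 : ℕ) : Bool :=
  !(Nat.beq e1 3 || Nat.beq e2 3 || Nat.beq e3 3) || fam 2 1 1 3 (fun _ _ _ => false) (evQ 2 1 2 168) e1 e2 e3
def FL (c t N0 : ℕ) : ℕ → ℕ → ℕ → Bool := fam c t 0 0 (fltL c) (evL c t N0)

end Cfsg.Agent.H9.AR
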