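import Cfsg.Agent.H9.AR2

/-! Kernel computations. -/

set_option autoImplicit false
set_option maxRecDepth 100000

namespace Cfsg.Agent.H9.AR

theorem c43x0 : fams FH 4 3 2 19 = true := by decide +kernel
theorem c43x1 : fams FH 4 3 20 22 = true := by decide +kernel
theorem c43x2 : fams FH 4 3 23 23 = true := by decide +kernel
theorem c43x3 : fams FH 4 3 24 24 = true := by decide +kernel
theorem c43x4 : fams FH 4 3 25 658 = true := by decide +kernel
theorem cH43 {l : ℕ} (h1 : 2 ≤ l) (h2 : l ≤ 658) : (FH l 4 3 && FH 4 l 3 && FH 4 3 l) = true := by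
  by_cases g0 : l ≤ 19
  · exact rng_sound c43x0 (by omega) g0
  by_cases g1 : l ≤ 22
  · exact rng_sound c43x1 (by omega) g1
  by_cases g2 : l ≤ 23
  · exact rng_sound c43x2 (by omega) g2
  by_cases g3 : l ≤ 24
  · exact rng_sound c43x3 (by omega) g3
  exact rng_sound c43x4 (by omega) h2

theorem c22x0 : fams FH 2 2 2 658 = true := by decide +kernel
theorem cH22 {l : ℕ} (h1 : 2 ≤ l) (h2 : l ≤ 658) : (FH l 2 2 && FH 2 l 2 && FH 2 2 l) = true := by
  exact rng_sound c22x0 (by omega) h2

theorem c44x0 : fams FH 4 4 2 658 = true := by decide +kernel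
theorem cH44 {l : ℕ} (h1 : 2 ≤ l) (h2 : l ≤ 658) : (FH l 4 4 && FH 4 l 4 && FH 4 4 l) = true := by
  exact rng_sound c44x0 (by omega) h2

end Cfsg.Agent.H9.AR
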