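import Cfsg.Agent.H9.AR2

/-! Kernel computations. -/

set_option autoImplicit false
set_option maxRecDepth 100000

namespace Cfsg.Agent.H9.AR

theorem c34x0 : fams FH 3 4 2 19 = true := by decide +kernel
theorem c34x1 : fams FH 3 4 20 22 = true := by decide +kernel
theorem c34x2 : fams FH 3 4 23 23 = true := by decide +kernel
theorem c34x3 : fams FH 3 4 24 24 = true := by decide +kernel
theorem c34x4 : fams FH 3 4 25 658 = true := by decide +kernel
theorem cH34 {l : ℕ} (h1 : 2 ≤ l) (h2 : l ≤ 658) : (FH l 3 4 && FH 3 l 4 && FH 3 4 l) = true := by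
  by_cases g0 : l ≤ 19
  · exact rng_sound c34x0 (by omega) g0
  by_cases g1 : l ≤ 22
  · exact rng_sound c34x1 (by omega) g1
  by_cases g2 : l ≤ 23
  · exact rng_sound c34x2 (by omega) g2
  by_cases g3 : l ≤ 24
  · exact rng_sound c34x3 (by omega) g3
  exact rng_sound c34x4 (by omega) h2

theorem c32x0 : fams FH 3 2 2 658 = true := by decide +kernel
theorem cH32 {l : ℕ} (h1 : 2 ≤ l) (h2 : l ≤ 658) : (FH l 3 2 && FH 3 l 2 && FH 3 2 l) = true := by
  exact rng_sound c32x0 (by omega) h2

theorem c42x0 : fams FH 4 2 2 658 = true := by decide +kernel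
theorem cH42 {l : ℕ} (h1 : 2 ≤ l) (h2 : l ≤ 658) : (FH l 4 2 && FH 4 l 2 && FH 4 2 l) = true := by
  exact rng_sound c42x0 (by omega) h2

end Cfsg.Agent.H9.AR
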