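import Cfsg.Agent.H9.AR2

/-! Kernel computations. -/

set_option autoImplicit false
set_option maxRecDepth 100000

namespace Cfsg.Agent.H9.AR

theorem c23x0 : fams FH 2 3 2 99 = true := by decide +kernel
theorem c23x1 : fams FH 2 3 100 169 = true := by decide +kernel
theorem c23x2 : fams FH 2 3 170 658 = true := by decide +kernel
theorem cH23 {l : ℕ} (h1 : 2 ≤ l) (h2 : l ≤ 658) : (FH l 2 3 && FH 2 l 3 && FH 2 3 l) = true := by
  by_cases g0 : l ≤ 99
  · exact rng_sound c23x0 (by omega) g0
  by_cases g1 : l ≤ 169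
  · exact rng_sound c23x1 (by omega) g1
  exact rng_sound c23x2 (by omega) h2

theorem c24x0 : fams FH 2 4 2 23 = true := by decide +kernel
theorem c24x1 : fams FH 2 4 24 199 = true := by decide +kernel
theorem c24x2 : fams FH 2 4 200 658 = true := by decide +kernel
theorem cH24 {l : ℕ} (h1 : 2 ≤ l) (h2 : l ≤ 658) : (FH l 2 4 && FH 2 l 4 && FH 2 4 l) = true := by
  by_cases g0 : l ≤ 23
  · exact rng_sound c24x0 (by omega) g0
  by_cases g1 : l ≤ 199
  · exact rng_sound c24x1 (by omega) g1
  exact rng_sound c24x2 (by omega) h2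

end Cfsg.Agent.H9.AR
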