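import Cfsg.Agent.H9.AR3a
import Cfsg.Agent.H9.AR3b
import Cfsg.Agent.H9.AR3c
import Cfsg.Agent.H9.AR3d

set_option autoImplicit false

namespace Cfsg.Agent.H9.AR

theorem cH {a b l : ℕ} (ha : 2 ≤ a) (ha' : a ≤ 4) (hb : 2 ≤ b) (hb' : b ≤ 4) (h1 : 2 ≤ l) (h2 : l ≤ 658) :
    (FH l a b && FH a l b && FH a b l) = true := by
  interval_cases a <;> interval_cases b
  exacts [cH22 h1 h2, cH23 h1 h2, cH24 h1 h2, cH32 h1 h2, cH33 h1 h2, cH34 h1 h2, cH42 h1 h2, cH43 h1 h2, cH44 h1 h2]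

end Cfsg.Agent.H9.AR
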