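import Cfsg.Agent.H9.AR2

/-! Kernel computations. -/

set_option autoImplicit false
set_option maxRecDepth 100000

namespace Cfsg.Agent.H9.AR

theorem c33x0 : fams FH 3 3 2 119 = true := by decide +kernel
theorem c33x1 : fams FH 3 3 120 149 = true := by decide +kernel
theorem c33x2 : fams FH 3 3 150 159 = true := by decide +kernel
theorem c33x3 : fams FH 3 3 160 165 = true := by decide +kernel
theorem c33x4 : fams FH 3 3 166 169 = true := by decide +kernel
theorem c33x5 : fams FH 3 3 170 249 = true := by decide +kernel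
theorem c33x6 : fams FH 3 3 250 399 = true := by decide +kernel
theorem c33x7 : fams FH 3 3 400 658 = true := by decide +kernel
theorem cH33 {l : ℕ} (h1 : 2 ≤ l) (h2 : l ≤ 658) : (FH l 3 3 && FH 3 l 3 && FH 3 3 l) = true := by
  by_cases g0 : l ≤ 119
  · exact rng_sound c33x0 (by omega) g0
  by_cases g1 : l ≤ 149
  · exact rng_sound c33x1 (by omega) g1
  by_cases g2 : l ≤ 159
  · exact rng_sound c33x2 (by omega) g2
  by_cases g3 : l ≤ 165
  · exact rng_sound c33x3 (by omega) g3
  by_cases g4 : l ≤ 169
  · exact rng_sound c33x4 (by omega) g4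
  by_cases g5 : l ≤ 249
  · exact rng_sound c33x5 (by omega) g5
  by_cases g6 : l ≤ 399
  · exact rng_sound c33x6 (by omega) g6
  exact rng_sound c33x7 (by omega) h2

end Cfsg.Agent.H9.AR
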