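import Cfsg.Agent.H9.AR3
import Cfsg.Agent.H8.ArR

/-! The homocyclic case. -/

set_option autoImplicit false

namespace Cfsg.Agent.H9.AR

open Cfsg.Agent.H1.N1

structure Q3 (e1 f1 n1 e2 f2 n2 e3 f3 n3 u D : ℕ) : Prop where
  c1 : Cl e1 f1 n1
  c2 : Cl e2 f2 n2
  c3 : Cl e3 f3 n3
  co12 : n1.Coprime n2
  co13 : n1.Coprime n3
  co23 : n2.Coprime n3
  E : 8 * (f1 * n2 * n3 + f2 * n1 * n3 + f3 * n1 * n2) = 5 * (n1 * n2 * n3) + D
  hP : n1 * n2 * n3 = u * D + 1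
  hD : D + 1 = u + 8 * ((1 - e1 % 2) * f1 + (1 - e2 % 2) * f2 + (1 - e3 % 2) * f3)
  hu : 6 ≤ u

variable {e1 f1 n1 e2 f2 n2 e3 f3 n3 u D : ℕ}

theorem Q3.s12 (h : Q3 e1 f1 n1 e2 f2 n2 e3 f3 n3 u D) : Q3 e2 f2 n2 e1 f1 n1 e3 f3 n3 u D :=
  ⟨h.c2, h.c1, h.c3, h.co12.symm, h.co23, h.co13, by linarith [h.E], by linarith [h.hP], by linarith [h.hD], h.hu⟩

theorem Q3.s23 (h : Q3 e1 f1 n1 e2 f2 n2 e3 f3 n3 u D) : Q3 e1 f1 n1 e3 f3 n3 e2 f2 n2 u D :=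
  ⟨h.c1, h.c3, h.c2, h.co13, h.co12, h.co23.symm, by linarith [h.E], by linarith [h.hP], by linarith [h.hD], h.hu⟩

theorem eps_le (e f : ℕ) : (1 - e % 2) * f ≤ f := by
  have : (1 - e % 2) * f ≤ 1 * f := Nat.mul_le_mul_right _ (by omega)
  omega

theorem Cl.le {e f n : ℕ} (h : Cl e f n) : 2 * f + 1 ≤ n := by
  have : 2 * f ≤ e * f := Nat.mul_le_mul_right _ h.two
  have := h.eq
  omega

theorem Q3.spos (h : Q3 e1 f1 n1 e2 f2 n2 e3 f3 n3 u D) (g : 0 < f3) : 8 * (f1 * n2 + f2 * n1) < 5 * (n1 * n2) := by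
  by_contra hh
  have o : (n1 * n2) % 2 = 1 := by rw [Nat.mul_mod, h.c1.odd, h.c2.odd]
  have l1 := h.c1.le
  have l2 := h.c2.le
  have l3 := h.c3.le
  have r : n1 + n2 ≤ n1 * n2 + 1 := by
    obtain ⟨a, rfl⟩ : ∃ a, n1 = a + 1 := ⟨n1 - 1, by omega⟩
    obtain ⟨b, rfl⟩ : ∃ b, n2 = b + 1 := ⟨n2 - 1, by omega⟩
    nlinarith [Nat.zero_le (a * b)]
  have E : 8 * (f1 * n2 + f2 * n1) * n3 + 8 * (f3 * (n1 * n2)) = 5 * (n1 * n2) * n3 + D := by linarith [h.E]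
  have hP := h.hP
  have hD := h.hD
  have x1 := eps_le e1 f1
  have x2 := eps_le e2 f2
  have x3 := eps_le e3 f3
  generalize n1 * n2 = P at *
  generalize f1 * n2 + f2 * n1 = A at *
  have y1 : (5 * P + 1) * n3 ≤ 8 * A * n3 := Nat.mul_le_mul_right _ (by omega)
  have y2 : (5 * P + 1) * n3 = 5 * P * n3 + n3 := by ring
  obtain ⟨Q, rfl⟩ : ∃ Q, P = Q + 1 := ⟨P - 1, by omega⟩
  have y3 : f3 * (Q + 1) = f3 * Q + f3 := by ring
  have y4 : 1 * Q ≤ f3 * Q := Nat.mul_le_mul_right _ g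
  have y5 : n3 < u := by omega
  have y6 : Q + 1 ≤ D := by omega
  have y7 : u * (Q + 1) ≤ u * D := Nat.mul_le_mul_left _ y6
  have y8 : (Q + 1) * n3 ≤ (Q + 1) * u := Nat.mul_le_mul_left _ y5.le
  have y9 : (Q + 1) * u = u * (Q + 1) := mul_comm _ _
  omega

theorem big_aux {a b fa fb s : ℕ} (ha : 2 ≤ a) (ha' : a ≤ 4) (hb : 2 ≤ b) (hb' : b ≤ 4) (oa : (a * fa + 1) % 2 = 1)
    (ob : (b * fb + 1) % 2 = 1) (da : fa = 0 → a = 2) (db : fb = 0 → b = 2) (x : ℕ) (hx : x = fa * fb) (s0 : 0 < s)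
    (hs : 8 * ((a + b) * x + fa + fb) + s = 5 * (a * b * x + a * fa + b * fb + 1)) :
    8 * (a * b * x + a * fa + b * fb + 1) < 659 * s := by
  by_cases h1 : fa ≤ 5
  · interval_cases a <;> interval_cases b <;> interval_cases fa <;> omega
  by_cases h2 : fb ≤ 5
  · interval_cases a <;> interval_cases b <;> interval_cases fb <;> omega
  have : 6 * (fa + fb) ≤ x + 36 := by
    obtain ⟨p, rfl⟩ : ∃ p, fa = p + 6 := ⟨fa - 6, by omega⟩
    obtain ⟨q, rfl⟩ : ∃ q, fb = q + 6 := ⟨fb - 6, by omega⟩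
    nlinarith [Nat.zero_le (p * q)]
  clear hx
  interval_cases a <;> interval_cases b <;> omega

theorem Q3.big (h : Q3 e1 f1 n1 e2 f2 n2 e3 f3 n3 u D) (a1 : e1 ≤ 4) (a2 : e2 ≤ 4) : e3 ≤ 658 := by
  by_contra hh
  have g : 0 < f3 := by
    rcases Nat.eq_zero_or_pos f3 with g | g
    · have := h.c3.dum g; omega
    · exact g
  have sp := h.spos g
  obtain ⟨s, hs⟩ : ∃ s, 8 * (f1 * n2 + f2 * n1) + s = 5 * (n1 * n2) := ⟨_, Nat.add_sub_cancel' sp.le⟩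
  have q1 := h.c1.eq
  have q2 := h.c2.eq
  have q3 := h.c3.eq
  have k := big_aux (s := s) h.c1.two a1 h.c2.two a2 (q1 ▸ h.c1.odd) (q2 ▸ h.c2.odd) h.c1.dum h.c2.dum _ rfl (by omega)
    (by rw [q1, q2] at hs; linarith)
  have k' : 8 * (n1 * n2) < 659 * s := by rw [q1, q2]; linarith
  have E : 8 * (n1 * n2) * f3 = s * e3 * f3 + s + D := by
    have E := h.E
    zify at E hs q3 ⊢
    linear_combination E - (n3 : ℤ) * hs + (s : ℤ) * q3
  have y1 : s * 659 ≤ s * e3 := Nat.mul_le_mul_left _ (by omega)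
  have y2 : 8 * (n1 * n2) * f3 ≤ s * e3 * f3 := Nat.mul_le_mul_right _ (by omega)
  omega

theorem Q3.srt (h : Q3 e1 f1 n1 e2 f2 n2 e3 f3 n3 u D) (o12 : n1 ≤ n2) (o23 : n2 ≤ n3) (F : FH e1 e2 e3 = true) :
    False := by
  have l1 := h.c1.le
  have l2 := h.c2.le
  have l3 := h.c3.le
  have hu := h.hu
  have hP := h.hP
  have hD := h.hD
  have x1 := eps_le e1 f1
  have x2 := eps_le e2 f2
  have x3 := eps_le e3 f3
  have g : 0 < f3 := by
    rcases Nat.eq_zero_or_pos f3 with g | g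
    · have q3 := h.c3.eq
      rw [g] at q3
      have b3 : n3 = 1 := by omega
      have b2 : n2 = 1 := by omega
      have b1 : n1 = 1 := by omega
      rw [b1, b2, b3] at hP
      have : 1 * 1 ≤ u * D := Nat.mul_le_mul (by omega) (by omega)
      omega
    · exact g
  have hp : D ≤ (1 * n1 + 12) * n3 := by
    by_contra hh
    have y0 : (1 * n1 + 12) * n3 = n1 * n3 + 12 * n3 := by ring
    have y1 : n1 * n3 ≤ u := by omega
    have y2 : n3 ≤ D := by omega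
    have y3 : n1 * n3 * n3 ≤ u * D := Nat.mul_le_mul y1 y2
    have y4 : n1 * n2 * n3 ≤ n1 * n3 * n3 := Nat.mul_le_mul_right _ (Nat.mul_le_mul_left _ o23)
    omega
  have ev := fam_sound (Dm := 0) F (by norm_num) h.c1 h.c2 h.c3 o12 o23 (by norm_num) hp h.E h.co12 rfl
  have z := evQ_sound ev h.c3 g o23 h.E h.hP h.hD hu (by omega) (h.spos g)
  have : 0 < 2 * u * (n1 * n2 * n3) := Nat.mul_pos (by omega) (by omega)
  omega

theorem Q3.no (h : Q3 e1 f1 n1 e2 f2 n2 e3 f3 n3 u D) (a1 : e1 ≤ 4) (a2 : e2 ≤ 4) : False := by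
  have b := h.big a1 a2
  have k1 := cH h.c1.two a1 h.c2.two a2 h.c3.two b
  have k2 := cH h.c2.two a2 h.c1.two a1 h.c3.two b
  simp only [Bool.and_eq_true] at k1 k2
  rcases le_total n1 n2 with x | x <;> rcases le_total n2 n3 with y | y <;> rcases le_total n1 n3 with z | z
  · exact h.srt x y k1.2
  · exact h.srt x y k1.2
  · exact h.s23.srt z y k1.1.2
  · exact h.s23.s12.srt z x k1.1.1
  · exact h.s12.srt x z k2.2
  · exact h.s12.s23.srt y z k2.1.2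
  · exact h.s12.s23.s12.srt y x k2.1.1
  · exact h.s12.s23.s12.srt y x k2.1.1

theorem nrm {e f : ℕ} (h2 : 2 ≤ e) (o : (e * f + 1) % 2 = 1) :
    ∃ e', Cl e' f (e * f + 1) ∧ e' ≤ e ∧ (if 2 ∣ e then f else 0) = (1 - e' % 2) * f := by
  rcases Nat.eq_zero_or_pos f with g | g
  · subst g
    exact ⟨2, ⟨by simp, o, le_rfl, fun _ => rfl⟩, h2, by simp⟩
  · refine ⟨e, ⟨rfl, o, h2, fun h => by omega⟩, le_rfl, ?_⟩
    split_ifs with h
    · rw [show e % 2 = 0 by omega]; simp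
    · rw [show e % 2 = 1 by omega]; simp

theorem arH.{v} : ArH.{v} := by
  intro ι s e n m N h m3 _ hN ht hc
  have mq : (3 : ℚ) ≤ m := by exact_mod_cast m3
  have Nq : (0 : ℚ) < N := by exact_mod_cast h.pos
  have lt : tau s e n < 382 / 585 := by
    have a1 : (m : ℚ)⁻¹ ≤ 3⁻¹ := inv_anti₀ (by norm_num) mq
    have a2 : (0 : ℚ) < (N : ℚ)⁻¹ := inv_pos.2 Nq
    rw [ht]; linarith
  obtain ⟨e1, u1, e2, u2, l, u3, a1, a2, b1, b2, c1, s1, s2, s3, k12, k13, k23, hp, hτ, hρ, -, -⟩ :=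
    Cfsg.Agent.H8.Ar.red h lt
  obtain ⟨d1, p1, p2, p3⟩ := nrm a1 s1.odd
  obtain ⟨d2, q1, q2, q3⟩ := nrm b1 s2.odd
  obtain ⟨d3, r1, -, r3⟩ := nrm (by omega) s3.odd
  rw [p3, q3, r3] at hρ
  rw [hp] at hN hc
  rw [hτ] at ht
  have w1 := p1.le
  have w2 := q1.le
  have w3 := r1.le
  generalize e1 * u1 + 1 = n1 at *
  generalize e2 * u2 + 1 = n2 at *
  generalize l * u3 + 1 = n3 at *
  obtain ⟨D, hD⟩ : ∃ D, D + 1 = 2 * m + 8 * rho s e n := ⟨2 * m + 8 * rho s e n - 1, by omega⟩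
  have hP : n1 * n2 * n3 = 2 * m * D + 1 := by
    zify at hc hD ⊢
    linear_combination hc - (2 * m : ℤ) * hD
  refine Q3.no (u := 2 * m) (D := D) ⟨p1, q1, r1, k12, k13, k23, ?_, hP, hρ ▸ hD, by omega⟩ (p2.trans a2) (q2.trans b2)
  have z1 : (n1 : ℚ) ≠ 0 := by have : 0 < n1 := by omega
                               positivity
  have z2 : (n2 : ℚ) ≠ 0 := by have : 0 < n2 := by omega
                               positivity
  have z3 : (n3 : ℚ) ≠ 0 := by have : 0 < n3 := by omega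
                               positivity
  have z4 : (m : ℚ) ≠ 0 := by positivity
  have hP' : (n1 : ℚ) * n2 * n3 = 2 * m * D + 1 := by exact_mod_cast hP
  rw [hN] at ht
  push_cast at ht
  field_simp at ht
  have : (2 * m : ℚ) * (8 * (u1 * n2 * n3 + u2 * n1 * n3 + u3 * n1 * n2)) = 2 * m * (5 * (n1 * n2 * n3) + D) := by
    linear_combination (1 / 8 : ℚ) * ht + hP'
  have := mul_left_cancel₀ (by positivity) this
  exact_mod_cast this

end Cfsg.Agent.H9.AR
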